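import Groth.Agent.SN24.Main
import Groth.Agent.S7420

/-!
# The conductor square as a pushout of schemes
-/

set_option autoImplicit false
set_option backward.isDefEq.respectTransparency.types false
set_option linter.style.haveILetI false
universe u

open CategoryTheory CategoryTheory.Limits AlgebraicGeometry TopologicalSpace

namespace Groth.Agent.SN24

variable {κ : Type u} [Field κ] {C Cn D : Scheme.{u}}

theorem main (g : C ⟶ Spec (CommRingCat.of κ)) [LocallyOfFiniteType g] [IsReduced C]
    (hdim : topologicalKrullDim C ≤ 1) (hsn : HTop.IsSeminormal C)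
    (ν : Cn ⟶ C) [IsFinite ν] (hn : Pi1.IsNormalScheme Cn)
    (U : C.Opens) (hU : Dense (U : Set C)) (hU' : Dense ((ν ⁻¹ᵁ U : Cn.Opens) : Set Cn)) [IsIso (ν ∣_ U)]
    (d : D ⟶ C) [IsClosedImmersion d] [IsReduced D]
    (hd : Set.range d.base = {x : C | ¬ IsRegularLocalRing (C.presheaf.stalk x)}) :
    IsPushout (pullback.fst ν d) (pullback.snd ν d) ν d ∧ ∀ x : C, IsReduced (ν.fiber x) := by
  classical
  haveI : IsLocallyNoetherian C := LocallyOfFiniteType.isLocallyNoetherian g
  let i := pullback.fst ν d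
  let j := pullback.snd ν d
  have w : i ≫ ν = j ≫ d := pullback.condition
  have hkey := fun V : C.affineOpens => key g hdim ν hn U hU hU' d hd V (((S7420.result C).1.1 hsn) V)
  have hW : ∀ V : C.affineOpens, IsAffineOpen (ν ⁻¹ᵁ V.1) := fun V => V.2.preimage ν
  have hZ : ∀ V : C.affineOpens, IsAffineOpen (i ⁻¹ᵁ ν ⁻¹ᵁ V.1) := fun V => (hW V).preimage i
  have hker : ∀ V : C.affineOpens,
      RingHom.ker (i.app (ν ⁻¹ᵁ V.1)).hom = (d.ker.ideal V).map (ν.app V.1).hom := fun V => by
    rw [← Scheme.Hom.ker_apply i ⟨_, hW V⟩, show i.ker = d.ker.comap ν from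
      Scheme.IdealSheafData.ker_fst_of_isClosedImmersion d ν, FSchLib.ideal_comap_eq_map ν d.ker ⟨_, hW V⟩ V le_rfl,
      Scheme.Hom.app_eq_appLE]
  refine ⟨isPushout_of_affine w fun V => ?_, fun x => ?_⟩
  · obtain ⟨hIc, hinj, -, -⟩ := hkey V
    let Y : D.Opens := d ⁻¹ᵁ V.1
    have hY : IsAffineOpen Y := V.2.preimage d
    let f₁ := ν.app V.1
    let f₂ := d.app V.1
    let g₁ := i.app (ν ⁻¹ᵁ V.1)
    let g₂ := j.appLE Y (i ⁻¹ᵁ ν ⁻¹ᵁ V.1) (le_preimage w V.1)
    have wring : f₁ ≫ g₁ = f₂ ≫ g₂ := by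
      show ν.app V.1 ≫ i.app (ν ⁻¹ᵁ V.1) = d.app V.1 ≫ j.appLE _ _ _
      rw [Scheme.Hom.app_eq_appLE, Scheme.Hom.app_eq_appLE, Scheme.Hom.app_eq_appLE,
        Scheme.Hom.appLE_comp_appLE, Scheme.Hom.appLE_comp_appLE]
      congr 1
    have hs : Function.Surjective g₁.hom := i.app_surjective _ (hW V)
    have hd' : Function.Surjective f₂.hom := d.app_surjective _ V.2
    have hsq : ∀ (a : Γ(C, V.1)), g₂.hom (f₂.hom a) = g₁.hom (f₁.hom a) := fun a =>
      (RingHom.congr_fun (congrArg CommRingCat.Hom.hom wring) a).symm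
    have hker₁ : RingHom.ker g₁.hom = (cond f₁.hom).map f₁.hom := by rw [← hIc]; exact hker V
    have hker₂ : RingHom.ker f₂.hom = cond f₁.hom := by
      rw [← hIc, Scheme.Hom.ker_apply]
    have H := isPushout_spec f₁ f₂ g₁ g₂ wring hs fun b y hby => by
      obtain ⟨a, rfl⟩ := hd' y
      rw [hsq] at hby
      obtain ⟨r, ⟨hr1, hr2⟩, -⟩ := existsUnique_of_cond f₁.hom hinj g₁.hom hker₁ b a hby
      refine ⟨r, ⟨hr1, ?_⟩, fun r' hr' => hinj (hr'.1.trans hr1.symm)⟩
      rw [← sub_eq_zero, ← map_sub, ← RingHom.mem_ker, hker₂]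
      exact hr2
    refine H.of_iso (hZ V).isoSpec.symm (hW V).isoSpec.symm hY.isoSpec.symm V.2.isoSpec.symm ?_ ?_ ?_ ?_
    all_goals
      simp only [Iso.symm_hom]
      rw [Iso.eq_inv_comp, ← Category.assoc, Iso.comp_inv_eq, IsAffineOpen.isoSpec_hom, IsAffineOpen.isoSpec_hom]
      first
        | (rw [show g₂ = j.appLE Y (i ⁻¹ᵁ ν ⁻¹ᵁ V.1) (le_preimage w V.1) from rfl,
            Scheme.Opens.toSpecΓ_SpecMap_appLE])
        | (simp only [g₁, f₁, f₂, Y, Scheme.Hom.app_eq_appLE, Scheme.Opens.toSpecΓ_SpecMap_appLE, Scheme.Hom.resLE_eq_morphismRestrict]; try rfl)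
  · -- fibres
    haveI hPred : IsReduced (pullback ν d) := by
      haveI : ∀ V : C.affineOpens, IsReduced (i ⁻¹ᵁ ν ⁻¹ᵁ V.1).toScheme := fun V => by
        obtain ⟨-, -, hrad, -⟩ := hkey V
        haveI : _root_.IsReduced Γ(pullback ν d, i ⁻¹ᵁ ν ⁻¹ᵁ V.1) :=
          (RingHom.ker_isRadical_iff_reduced_of_surjective (i.app_surjective _ (hW V))).1 (hker V ▸ hrad)
        haveI : IsReduced (Spec Γ(pullback ν d, i ⁻¹ᵁ ν ⁻¹ᵁ V.1)) := inferInstance
        exact isReduced_of_isOpenImmersion (hZ V).isoSpec.hom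
      haveI : ∀ z : ↥(pullback ν d), _root_.IsReduced ((pullback ν d).presheaf.stalk z) := fun z => by
        obtain ⟨V, hV, hzV, -⟩ := exists_isAffineOpen_mem_and_subset (x := ν (i z)) (U := ⊤) trivial
        let O : (pullback ν d).Opens := i ⁻¹ᵁ ν ⁻¹ᵁ V
        haveI := this ⟨V, hV⟩
        exact isReduced_of_injective (O.stalkIso ⟨z, hzV⟩).commRingCatIsoToRingEquiv.symm
          (O.stalkIso ⟨z, hzV⟩).commRingCatIsoToRingEquiv.symm.injective
      exact isReduced_of_isReduced_stalk _
    by_cases hx : x ∈ Set.range d.base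
    · obtain ⟨y, rfl⟩ := hx
      obtain ⟨V, hV, hyV, -⟩ := exists_isAffineOpen_mem_and_subset (x := d y) (U := ⊤) trivial
      obtain ⟨-, -, -, hmax⟩ := hkey ⟨V, hV⟩
      let R := Γ(D, d ⁻¹ᵁ V)
      have hsur : Function.Surjective (d.app V).hom := d.app_surjective _ hV
      haveI : IsNoetherianRing R := by
        haveI : IsNoetherianRing Γ(C, V) := IsLocallyNoetherian.component_noetherian ⟨V, hV⟩
        exact isNoetherianRing_of_surjective _ _ (d.app V).hom hsur
      have hpmax : ∀ p : Ideal R, p.IsPrime → p.IsMaximal := fun p hp => by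
        haveI := hp
        haveI := hmax (p.comap (d.app V).hom) (Ideal.IsPrime.comap _) (by
          rw [Scheme.Hom.ker_apply]; exact Ideal.comap_mono bot_le)
        exact Ideal.IsMaximal.map_of_surjective_of_ker_le hsur (Ideal.comap_mono bot_le) |> fun h => by
          rwa [Ideal.map_comap_of_surjective _ hsur] at h
      haveI : IsArtinianRing R := isArtinianRing_iff_krullDimLE_zero.2 (Ring.krullDimLE_zero_iff.2 hpmax)
      have hY : IsAffineOpen (d ⁻¹ᵁ V) := hV.preimage d
      haveI : DiscreteTopology ↥(Spec (CommRingCat.of R)) := inferInstanceAs (DiscreteTopology (PrimeSpectrum R))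
      have hopen : IsOpen ({y} : Set D) := by
        obtain ⟨P, hP⟩ : y ∈ Set.range hY.fromSpec := by rw [hY.range_fromSpec]; exact hyV
        rw [← hP, ← Set.image_singleton]
        exact hY.fromSpec.isOpenEmbedding.isOpenMap _ (isOpen_discrete _)
      have hcl : IsClosed ({d y} : Set C) := by
        refine isClosed_of_closure_subset fun z hz => ?_
        obtain ⟨V', hV', hzV', -⟩ := exists_isAffineOpen_mem_and_subset (x := z) (U := ⊤) trivial
        have hsp : d y ⤳ z := specializes_iff_mem_closure.2 hz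
        obtain ⟨P, hP⟩ : d y ∈ Set.range hV'.fromSpec := by
          rw [hV'.range_fromSpec]; exact hsp.mem_open V'.isOpen hzV'
        obtain ⟨Q, hQ⟩ : z ∈ Set.range hV'.fromSpec := by rw [hV'.range_fromSpec]; exact hzV'
        have hPQ : P.asIdeal ≤ Q.asIdeal := (PrimeSpectrum.le_iff_specializes P Q).2
          (hV'.fromSpec.isOpenEmbedding.isInducing.specializes_iff.1 (hP.symm ▸ hQ.symm ▸ hsp))
        have hI : d.ker.ideal ⟨V', hV'⟩ ≤ P.asIdeal := by
          intro f hf
          have hmem : d y ∈ d.ker.support := by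
            show d y ∈ (d.ker.support : Set C)
            rw [Scheme.Hom.support_ker]; exact subset_closure ⟨y, rfl⟩
          rw [Scheme.IdealSheafData.mem_support_iff_of_mem (U := ⟨V', hV'⟩) (hsp.mem_open V'.isOpen hzV'),
            Scheme.mem_zeroLocus_iff, ← hP] at hmem
          by_contra hne
          refine hmem f hf ?_
          show P ∈ hV'.fromSpec ⁻¹ᵁ C.basicOpen f
          rw [hV'.fromSpec_preimage_basicOpen]
          exact hne
        obtain ⟨-, -, -, hmax'⟩ := hkey ⟨V', hV'⟩
        have := (hmax' P.asIdeal P.isPrime hI).eq_of_le Q.isPrime.ne_top hPQ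
        rw [Set.mem_singleton_iff, ← hQ, ← hP, PrimeSpectrum.ext this]
      have hy : IsClosed ({y} : Set D) := by
        convert hcl.preimage d.continuous using 1
        ext z
        exact ⟨fun h => by rw [Set.mem_singleton_iff.1 h]; rfl, fun h => d.isClosedEmbedding.injective h⟩
      let O : D.Opens := ⟨{y}, hopen⟩
      haveI := isClosed_singleton_iff_isClosedImmersion.1 hy
      haveI : IsOpenImmersion (D.fromSpecResidueField y) := by
        let q' : Spec (D.residueField y) ⟶ O := IsOpenImmersion.lift O.ι (D.fromSpecResidueField y) (by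
          rw [Scheme.range_fromSpecResidueField, Scheme.Opens.range_ι]; rfl)
        have hq' : q' ≫ O.ι = D.fromSpecResidueField y := IsOpenImmersion.lift_fac _ _ _
        haveI : IsClosedImmersion (q' ≫ O.ι) := hq'.symm ▸ inferInstance
        haveI : IsClosedImmersion q' := IsClosedImmersion.of_comp q' O.ι
        haveI : Surjective q' := ⟨fun z => ⟨IsLocalRing.closedPoint (D.residueField y), Subtype.ext
          ((Set.mem_singleton_iff.1 (q' (IsLocalRing.closedPoint (D.residueField y))).2).trans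
            (Set.mem_singleton_iff.1 z.2).symm)⟩⟩
        haveI : IsIso q' := isIso_of_isClosedImmersion_of_surjective q'
        rw [← hq']; infer_instance
      let q := D.fromSpecResidueField y
      haveI : IsReduced (pullback (pullback.snd ν d) q) := isReduced_of_isOpenImmersion (pullback.fst (pullback.snd ν d) q)
      let e : pullback (pullback.snd ν d) q ≅ pullback ν (q ≫ d) := pullbackLeftPullbackSndIso ν d q
      haveI : IsReduced (pullback ν (q ≫ d)) := isReduced_of_isOpenImmersion e.inv
      have hfac : q ≫ d = Spec.map (d.residueFieldMap y) ≫ C.fromSpecResidueField (d y) :=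
        (d.SpecMap_residueFieldMap_fromSpecResidueField y).symm
      haveI : IsIso (d.residueFieldMap y) := (ConcreteCategory.isIso_iff_bijective _).2
        ⟨(d.residueFieldMap y).hom.injective, fun z => by
          obtain ⟨t, rfl⟩ := D.residue_surjective y z
          obtain ⟨t', rfl⟩ := d.stalkMap_surjective y t
          exact ⟨C.residue (d y) t', rfl⟩⟩
      haveI : IsIso (Spec.map (d.residueFieldMap y)) := inferInstance
      have hp : IsPullback (pullback.fst ν (q ≫ d)) (pullback.snd ν (q ≫ d) ≫ Spec.map (d.residueFieldMap y))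
          ν (C.fromSpecResidueField (d y)) :=
        (IsPullback.of_hasPullback ν (q ≫ d)).of_iso (Iso.refl _) (Iso.refl _) (asIso (Spec.map (d.residueFieldMap y)))
          (Iso.refl _) (by simp) (by simp) (by simp) (by simp [hfac])
      exact isReduced_of_isOpenImmersion hp.isoPullback.inv
    · obtain ⟨V, hV, hxV, hVd⟩ := exists_isAffineOpen_mem_and_subset (x := x)
        (U := (⟨(Set.range d.base)ᶜ, d.isClosedEmbedding.isClosed_range.isOpen_compl⟩ : C.Opens)) hx
      obtain ⟨hIc, hinj, -, -⟩ := hkey ⟨V, hV⟩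
      have htop : cond (ν.app V).hom = ⊤ := by
        by_contra hne
        obtain ⟨m, hm, hle⟩ := Ideal.exists_le_maximal _ hne
        let z : C := hV.fromSpec ⟨m, hm.isPrime⟩
        have hzV : z ∈ V := by
          have : z ∈ Set.range hV.fromSpec := ⟨_, rfl⟩
          rwa [hV.range_fromSpec] at this
        have hz : z ∈ (d.ker.support : Set C) := by
          show z ∈ d.ker.support
          rw [Scheme.IdealSheafData.mem_support_iff_of_mem (U := ⟨V, hV⟩) hzV, Scheme.mem_zeroLocus_iff]
          intro f hf h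
          have h2 : (⟨m, hm.isPrime⟩ : PrimeSpectrum Γ(C, V)) ∈ hV.fromSpec ⁻¹ᵁ C.basicOpen f := h
          rw [hV.fromSpec_preimage_basicOpen] at h2
          exact h2 (hle (hIc ▸ hf))
        rw [Scheme.Hom.support_ker, d.isClosedEmbedding.isClosed_range.closure_eq] at hz
        exact hVd hzV hz
      have hsurj : Function.Surjective (ν.app V).hom := fun b => by
        have := (htop ▸ Submodule.mem_top : (1 : Γ(C, V)) ∈ cond (ν.app V).hom) b
        rwa [map_one, one_mul] at this
      haveI : IsIso (ν.app V) := (ConcreteCategory.isIso_iff_bijective _).2 ⟨hinj, hsurj⟩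
      haveI : IsIso (ν ∣_ V) := by
        have e : ν ∣_ V = ((hW ⟨V, hV⟩).isoSpec.hom ≫ Spec.map (ν.app V)) ≫ hV.isoSpec.inv := by
          rw [Iso.eq_comp_inv, IsAffineOpen.isoSpec_hom, IsAffineOpen.isoSpec_hom, Scheme.Hom.app_eq_appLE,
            Scheme.Opens.toSpecΓ_SpecMap_appLE, Scheme.Hom.resLE_eq_morphismRestrict]
        rw [e]; infer_instance
      obtain ⟨q, hq⟩ : ∃ q, q ≫ V.ι = C.fromSpecResidueField x :=
        ⟨IsOpenImmersion.lift V.ι (C.fromSpecResidueField x) (by
          rw [Scheme.range_fromSpecResidueField, Scheme.Opens.range_ι]; exact Set.singleton_subset_iff.2 hxV),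
          IsOpenImmersion.lift_fac _ _ _⟩
      have hp := (IsPullback.of_hasPullback (ν ∣_ V) q).paste_horiz (isPullback_morphismRestrict ν V).flip
      rw [hq] at hp
      haveI : IsReduced (Spec (C.residueField x)) := inferInstance
      haveI : IsReduced (pullback (ν ∣_ V) q) := isReduced_of_isOpenImmersion (pullback.snd (ν ∣_ V) q)
      exact isReduced_of_isOpenImmersion hp.isoPullback.inv

end Groth.Agent.SN24
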