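import Groth.Agent.KerEval.Ferrand
import Mathlib.AlgebraicGeometry.Restrict
import Mathlib.AlgebraicGeometry.Gluing
import Mathlib.CategoryTheory.Limits.Shapes.ConcreteCategory

/-!
# Pushouts of schemes are local on the target
-/

set_option autoImplicit false
set_option backward.isDefEq.respectTransparency.types false
universe u

open CategoryTheory CategoryTheory.Limits AlgebraicGeometry

namespace Groth.Agent.SN24

variable {Z X Y P : Scheme.{u}} {i : Z ⟶ X} {j : Z ⟶ Y} {a : X ⟶ P} {b : Y ⟶ P}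

theorem le_preimage (w : i ≫ a = j ≫ b) (V : P.Opens) : i ⁻¹ᵁ a ⁻¹ᵁ V ≤ j ⁻¹ᵁ b ⁻¹ᵁ V := by
  rw [← Scheme.Hom.comp_preimage, ← Scheme.Hom.comp_preimage, w]

/-- A commutative square which is a pushout over every affine open of the target is a pushout. -/
theorem isPushout_of_affine (w : i ≫ a = j ≫ b)
    (h : ∀ V : P.affineOpens, IsPushout (i ∣_ (a ⁻¹ᵁ V.1)) (j.resLE (b ⁻¹ᵁ V.1) _ (le_preimage w V.1))
      (a ∣_ V.1) (b ∣_ V.1)) : IsPushout i j a b := by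
  have huniq : ∀ {T : Scheme.{u}} (V : P.affineOpens) (g g' : V.1.toScheme ⟶ T),
      (a ∣_ V.1) ≫ g = (a ∣_ V.1) ≫ g' → (b ∣_ V.1) ≫ g = (b ∣_ V.1) ≫ g' → g = g' :=
    fun V g g' h1 h2 => (h V).hom_ext h1 h2
  have hext : ∀ {T : Scheme.{u}} (g g' : P ⟶ T), a ≫ g = a ≫ g' → b ≫ g = b ≫ g' → g = g' := by
    intro T g g' h1 h2
    refine (P.openCoverOfIsOpenCover (fun V : P.affineOpens => V.1) (AlgebraicGeometry.iSup_affineOpens_eq_top P)).hom_ext g g' fun V => huniq V _ _ ?_ ?_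
    · show (a ∣_ V.1) ≫ V.1.ι ≫ g = (a ∣_ V.1) ≫ V.1.ι ≫ g'
      rw [morphismRestrict_ι_assoc, morphismRestrict_ι_assoc, h1]
    · show (b ∣_ V.1) ≫ V.1.ι ≫ g = (b ∣_ V.1) ≫ V.1.ι ≫ g'
      rw [morphismRestrict_ι_assoc, morphismRestrict_ι_assoc, h2]
  have hdesc : ∀ (T : Scheme.{u}) (u : X ⟶ T) (v : Y ⟶ T), i ≫ u = j ≫ v → ∃ g, a ≫ g = u ∧ b ≫ g = v := by
    intro T u v huv
    have hV : ∀ V : P.affineOpens, ∃ g : V.1.toScheme ⟶ T,
        (a ∣_ V.1) ≫ g = (a ⁻¹ᵁ V.1).ι ≫ u ∧ (b ∣_ V.1) ≫ g = (b ⁻¹ᵁ V.1).ι ≫ v := fun V => by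
      have hw : (i ∣_ (a ⁻¹ᵁ V.1)) ≫ (a ⁻¹ᵁ V.1).ι ≫ u =
          j.resLE (b ⁻¹ᵁ V.1) _ (le_preimage w V.1) ≫ (b ⁻¹ᵁ V.1).ι ≫ v := by
        rw [morphismRestrict_ι_assoc, Scheme.Hom.resLE_comp_ι_assoc, huv]
      exact ⟨(h V).desc _ _ hw, (h V).inl_desc _ _ hw, (h V).inr_desc _ _ hw⟩
    choose g hga hgb using hV
    let 𝒰 := P.openCoverOfIsOpenCover (fun V : P.affineOpens => V.1) (AlgebraicGeometry.iSup_affineOpens_eq_top P)
    have hres : ∀ (V W : P.affineOpens) (hle : W.1 ≤ V.1), P.homOfLE hle ≫ g V = g W := by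
      intro V W hle
      refine huniq W _ _ ?_ ?_
      · rw [hga, ← Category.assoc, show (a ∣_ W.1) ≫ P.homOfLE hle = X.homOfLE (a.preimage_mono hle) ≫ (a ∣_ V.1) from by
          rw [← cancel_mono V.1.ι]; simp, Category.assoc, hga]
        simp
      · rw [hgb, ← Category.assoc, show (b ∣_ W.1) ≫ P.homOfLE hle = Y.homOfLE (b.preimage_mono hle) ≫ (b ∣_ V.1) from by
          rw [← cancel_mono V.1.ι]; simp, Category.assoc, hgb]
        simp
    have hcomp : ∀ V V' : P.affineOpens, pullback.fst (𝒰.f V) (𝒰.f V') ≫ g V = pullback.snd (𝒰.f V) (𝒰.f V') ≫ g V' := by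
      intro V V'
      let e : (↑(V.1 ⊓ V'.1) : Scheme) ≅ pullback V.1.ι V'.1.ι := (isPullback_opens_inf V.1 V'.1).isoPullback
      refine (cancel_epi e.hom).1 ?_
      erw [IsPullback.isoPullback_hom_fst_assoc, IsPullback.isoPullback_hom_snd_assoc]
      refine ((V.1 ⊓ V'.1).toScheme.openCoverOfIsOpenCover
        (fun W : (V.1 ⊓ V'.1).toScheme.affineOpens => W.1) (AlgebraicGeometry.iSup_affineOpens_eq_top _)).hom_ext _ _
        fun W => ?_
      let W' : P.affineOpens := ⟨(V.1 ⊓ V'.1).ι ''ᵁ W.1, W.2.image_of_isOpenImmersion _⟩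
      have hW' : W'.1 ≤ V.1 ⊓ V'.1 := (Scheme.Opens.ι_image_le _ _)
      let eW : W.1.toScheme ≅ W'.1.toScheme := ((V.1 ⊓ V'.1).ι.isoImage W.1)
      have e1 : ∀ (U : P.Opens) (hU : V.1 ⊓ V'.1 ≤ U),
          W.1.ι ≫ P.homOfLE hU = eW.hom ≫ P.homOfLE (hW'.trans hU) := fun U hU => by
        rw [← cancel_mono U.ι]; simp [eW, W']
      show W.1.ι ≫ P.homOfLE inf_le_left ≫ g V = W.1.ι ≫ P.homOfLE inf_le_right ≫ g V'
      rw [← Category.assoc, ← Category.assoc, e1, e1, Category.assoc, Category.assoc, hres, hres]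
    refine ⟨𝒰.glueMorphisms g hcomp, ?_, ?_⟩
    · refine (X.openCoverOfIsOpenCover (fun V : P.affineOpens => a ⁻¹ᵁ V.1)
        (eq_top_iff.2 fun z _ => by
          obtain ⟨W, hW, hz, -⟩ := exists_isAffineOpen_mem_and_subset (x := a z) (U := ⊤) trivial
          exact TopologicalSpace.Opens.mem_iSup.2 ⟨⟨W, hW⟩, hz⟩)).hom_ext _ _ fun V => ?_
      show (a ⁻¹ᵁ V.1).ι ≫ a ≫ _ = (a ⁻¹ᵁ V.1).ι ≫ u
      rw [← morphismRestrict_ι_assoc, ← hga V]
      congr 1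
      exact 𝒰.ι_glueMorphisms g hcomp V
    · refine (Y.openCoverOfIsOpenCover (fun V : P.affineOpens => b ⁻¹ᵁ V.1)
        (eq_top_iff.2 fun z _ => by
          obtain ⟨W, hW, hz, -⟩ := exists_isAffineOpen_mem_and_subset (x := b z) (U := ⊤) trivial
          exact TopologicalSpace.Opens.mem_iSup.2 ⟨⟨W, hW⟩, hz⟩)).hom_ext _ _ fun V => ?_
      show (b ⁻¹ᵁ V.1).ι ≫ b ≫ _ = (b ⁻¹ᵁ V.1).ι ≫ v
      rw [← morphismRestrict_ι_assoc, ← hgb V]
      congr 1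
      exact 𝒰.ι_glueMorphisms g hcomp V
  choose g hg using hdesc
  exact ⟨⟨w⟩, ⟨PushoutCocone.IsColimit.mk w (fun s => g s.pt s.inl s.inr s.condition)
    (fun s => (hg s.pt s.inl s.inr s.condition).1) (fun s => (hg s.pt s.inl s.inr s.condition).2)
    fun s m h1 h2 => hext _ _ (h1.trans (hg s.pt s.inl s.inr s.condition).1.symm)
      (h2.trans (hg s.pt s.inl s.inr s.condition).2.symm)⟩⟩

/-- `Spec` of a fibre square of rings along a surjection is a pushout of schemes. -/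
theorem isPushout_spec {R R₁ R₂ R₃ : CommRingCat.{u}} (f₁ : R ⟶ R₁) (f₂ : R ⟶ R₂) (g₁ : R₁ ⟶ R₃) (g₂ : R₂ ⟶ R₃)
    (w : f₁ ≫ g₁ = f₂ ≫ g₂) (hs : Function.Surjective g₁.hom)
    (h : ∀ x y, g₁.hom x = g₂.hom y → ∃! r, f₁.hom r = x ∧ f₂.hom r = y) :
    IsPushout (Spec.map g₁) (Spec.map g₂) (Spec.map f₁) (Spec.map f₂) := by
  let S : KerEval.Sq R R₂ R₁ R₃ :=
    { f := f₂.hom
      g := f₁.hom
      q := g₂.hom
      p := g₁.hom
      surj := hs
      comm := fun c => (RingHom.congr_fun (congrArg CommRingCat.Hom.hom w) c).symm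
      exist := fun y x e => by
        obtain ⟨r, hr, -⟩ := h x y e.symm
        exact ⟨r, hr.2, hr.1⟩
      ext := fun c c' e₂ e₁ => by
        obtain ⟨r, -, hu⟩ := h (f₁.hom c) (f₂.hom c) (RingHom.congr_fun (congrArg CommRingCat.Hom.hom w) c)
        rw [hu c ⟨rfl, rfl⟩, hu c' ⟨e₁.symm, e₂.symm⟩] }
  have w' : Spec.map g₁ ≫ Spec.map f₁ = Spec.map g₂ ≫ Spec.map f₂ := by rw [← Spec.map_comp, ← Spec.map_comp, w]
  refine ⟨⟨w'⟩, ⟨PushoutCocone.IsColimit.mk w'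
    (fun s => (S.exists_hom s.inr s.inl s.condition.symm).choose)
    (fun s => (S.exists_hom s.inr s.inl s.condition.symm).choose_spec.2)
    (fun s => (S.exists_hom s.inr s.inl s.condition.symm).choose_spec.1)
    (fun s m h1 h2 => ?_)⟩⟩
  exact S.hom_ext _ _ (h2.trans (S.exists_hom s.inr s.inl s.condition.symm).choose_spec.1.symm)
    (h1.trans (S.exists_hom s.inr s.inl s.condition.symm).choose_spec.2.symm)

end Groth.Agent.SN24
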