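import Groth.Agent.SN24.Ring
import Groth.Agent.SN24.Glue
import Groth.Agent.FSchLib.IdealSheaf
import Groth.Agent.CAlgH3.RegularLocal
import Groth.Agent.CurvesLib24.Basic
import Groth.Agent.NormSeq24.FrobH1
import Groth.Prelude.Def_Pi1
import Mathlib.AlgebraicGeometry.IdealSheaf.Functorial
import Mathlib.AlgebraicGeometry.Fiber

/-!
# The conductor square of a seminormal curve
-/

set_option autoImplicit false
set_option backward.isDefEq.respectTransparency.types false
set_option linter.style.haveILetI false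
universe u

open CategoryTheory CategoryTheory.Limits AlgebraicGeometry TopologicalSpace

namespace Groth.Agent.SN24

theorem not_le_minimalPrime_of_dense {A : Type u} [CommRing A] [IsNoetherianRing A] {O : Set (PrimeSpectrum A)}
    (hd : Dense O) {J : Ideal A} (hJ : O ⊆ (PrimeSpectrum.zeroLocus (J : Set A))ᶜ) {q : Ideal A}
    (hq : q ∈ minimalPrimes A) : ¬ J ≤ q := by
  classical
  intro hle
  haveI := hq.1.1
  have hfin : (minimalPrimes A \ {q}).Finite :=
    (minimalPrimes.finite_of_isNoetherianRing A).subset Set.sdiff_subset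
  have he : ¬ (hfin.toFinset.inf id : Ideal A) ≤ q := fun h => by
    obtain ⟨q', hq', hle'⟩ := (Ideal.IsPrime.inf_le' hq.1.1).1 h
    rw [Set.Finite.mem_toFinset] at hq'
    exact hq'.2 (le_antisymm hle' (hq.2 hq'.1.1 hle'))
  obtain ⟨e, he, heq⟩ := SetLike.not_le_iff_exists.1 he
  obtain ⟨P, hPe, hPO⟩ := hd.inter_open_nonempty (PrimeSpectrum.basicOpen e : Set (PrimeSpectrum A))
    (PrimeSpectrum.basicOpen e).isOpen ⟨⟨q, hq.1.1⟩, heq⟩
  obtain ⟨q₀, hq₀, hle₀⟩ := Ideal.exists_minimalPrimes_le (I := (⊥ : Ideal A)) (J := P.asIdeal) bot_le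
  have hq₀q : q₀ = q := by
    by_contra hne
    have : (hfin.toFinset.inf id : Ideal A) ≤ q₀ := Finset.inf_le (f := id) (hfin.mem_toFinset.2 ⟨hq₀, hne⟩)
    exact hPe (hle₀ (this he))
  exact hJ hPO ((hle.trans (hq₀q ▸ hle₀) : J ≤ P.asIdeal))

variable {κ : Type u} [Field κ] {C Cn D : Scheme.{u}}

theorem dense_preimage_fromSpec {X : Scheme.{u}} {V : X.Opens} (hV : IsAffineOpen V) {s : Set X} (hs : Dense s) :
    Dense (hV.fromSpec ⁻¹' s) :=
  hs.preimage hV.fromSpec.isOpenEmbedding.isOpenMap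

/-- The affine square of the conductor. -/
theorem key (g : C ⟶ Spec (CommRingCat.of κ)) [LocallyOfFiniteType g] [IsReduced C]
    (hdim : topologicalKrullDim C ≤ 1)
    (ν : Cn ⟶ C) [IsFinite ν] (hn : Pi1.IsNormalScheme Cn)
    (U : C.Opens) (hU : Dense (U : Set C)) (hU' : Dense ((ν ⁻¹ᵁ U : Cn.Opens) : Set Cn)) [IsIso (ν ∣_ U)]
    (d : D ⟶ C) [IsClosedImmersion d] [IsReduced D]
    (hd : Set.range d.base = {x : C | ¬ IsRegularLocalRing (C.presheaf.stalk x)})
    (V : C.affineOpens) (hsnV : HTop.IsSeminormalRing Γ(C, V.1)) :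
    d.ker.ideal V = cond (ν.app V.1).hom ∧ Function.Injective (ν.app V.1).hom ∧
      ((d.ker.ideal V).map (ν.app V.1).hom).IsRadical ∧
      ∀ p : Ideal Γ(C, V.1), p.IsPrime → d.ker.ideal V ≤ p → p.IsMaximal := by
  classical
  haveI : IsLocallyNoetherian C := LocallyOfFiniteType.isLocallyNoetherian g
  haveI := NormSeq24.isReduced_of_isNormalScheme hn
  let A := Γ(C, V.1)
  let W : Cn.Opens := ν ⁻¹ᵁ V.1
  have hW : IsAffineOpen W := V.2.preimage ν
  let B := Γ(Cn, W)
  let φ : A →+* B := (ν.app V.1).hom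
  haveI : IsNoetherianRing A := IsLocallyNoetherian.component_noetherian V
  have hfin : φ.Finite := IsFinite.finite_app (f := ν) V.1 V.2
  haveI : IsNoetherianRing B := by
    letI := φ.toAlgebra
    haveI : Module.Finite A B := hfin
    exact IsNoetherianRing.of_finite A B
  haveI : _root_.IsReduced B := IsReduced.component_reduced W
  haveI : _root_.IsReduced A := IsReduced.component_reduced V.1
  have hsq : hW.fromSpec ≫ ν = Spec.map (CommRingCat.ofHom φ) ≫ V.2.fromSpec := by
    rw [← IsAffineOpen.SpecMap_appLE_fromSpec ν V.2 hW (le_refl W), Scheme.Hom.appLE]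
    simp [φ, W]
  -- an element cutting out a dense open part of the locus of isomorphism
  obtain ⟨J, hJ⟩ : ∃ J : Ideal A, SetLike.coe (V.2.fromSpec ⁻¹ᵁ U) =
      (PrimeSpectrum.zeroLocus (J : Set A))ᶜ := by
    obtain ⟨J, hJ⟩ := (PrimeSpectrum.isClosed_iff_zeroLocus_ideal _).1
      (V.2.fromSpec ⁻¹ᵁ U).isOpen.isClosed_compl
    exact ⟨J, by rw [← hJ]; exact (compl_compl _).symm⟩
  have hA1 : ∀ q ∈ minimalPrimes A, ¬ J ≤ q := fun q hq =>
    not_le_minimalPrime_of_dense (dense_preimage_fromSpec V.2 hU) hJ.le hq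
  have hB1 : ∀ q ∈ minimalPrimes B, ¬ J ≤ q.comap φ := fun q hq h => by
    refine not_le_minimalPrime_of_dense (dense_preimage_fromSpec hW hU') (J := J.map φ) ?_ hq (Ideal.map_le_iff_le_comap.2 h)
    intro P hP hPJ
    have h1 : PrimeSpectrum.comap φ P ∈ SetLike.coe (V.2.fromSpec ⁻¹ᵁ U) := by
      show V.2.fromSpec _ ∈ U
      have h2 : ν (hW.fromSpec P) ∈ U := hP
      rw [← Scheme.Hom.comp_apply, hsq, Scheme.Hom.comp_apply] at h2
      exact h2
    rw [hJ] at h1
    exact h1 fun x hx => (hPJ (Ideal.mem_map_of_mem φ hx) : φ x ∈ P.asIdeal)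
  obtain ⟨s, hsJ, hs⟩ : ∃ s ∈ J, ∀ q ∈ (minimalPrimes.finite_of_isNoetherianRing A).toFinset ∪
      ((minimalPrimes.finite_of_isNoetherianRing B).toFinset.image (Ideal.comap φ)), s ∉ q := by
    by_contra hno
    push_neg at hno
    have hsub : (J : Set A) ⊆ ⋃ q ∈ (↑((minimalPrimes.finite_of_isNoetherianRing A).toFinset ∪
        ((minimalPrimes.finite_of_isNoetherianRing B).toFinset.image (Ideal.comap φ))) : Set (Ideal A)), (q : Set A) :=
      fun x hx => Set.mem_iUnion₂.2 (let ⟨q, hq, hxq⟩ := hno x hx; ⟨q, hq, hxq⟩)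
    obtain ⟨q, hq, hle⟩ := (Ideal.subset_union_prime ⊥ ⊥ fun q hq _ _ => by
      rcases Finset.mem_union.1 hq with h | h
      · exact ((Set.Finite.mem_toFinset _).1 h).1.1
      · obtain ⟨q', hq', rfl⟩ := Finset.mem_image.1 h
        haveI := ((Set.Finite.mem_toFinset _).1 hq').1.1
        exact Ideal.IsPrime.comap φ).1 hsub
    rcases Finset.mem_union.1 hq with h | h
    · exact hA1 q ((Set.Finite.mem_toFinset _).1 h) hle
    · obtain ⟨q', hq', rfl⟩ := Finset.mem_image.1 h
      exact hB1 q' ((Set.Finite.mem_toFinset _).1 hq') hle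
  have hsA : ∀ q ∈ minimalPrimes A, s ∉ q := fun q hq => hs q (Finset.mem_union_left _ ((Set.Finite.mem_toFinset _).2 hq))
  have hsB : ∀ q ∈ minimalPrimes B, φ s ∉ q := fun q hq =>
    hs (q.comap φ) (Finset.mem_union_right _ (Finset.mem_image_of_mem _ ((Set.Finite.mem_toFinset _).2 hq)))
  have hDU : C.basicOpen s ≤ U := by
    intro x hx
    have hxV : x ∈ V.1 := C.basicOpen_le s hx
    obtain ⟨P, rfl⟩ : x ∈ Set.range V.2.fromSpec := by
      rw [V.2.range_fromSpec]; exact hxV
    have h1 : P ∈ SetLike.coe (V.2.fromSpec ⁻¹ᵁ U) := by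
      rw [hJ]
      intro hPJ
      have h2 : P ∈ V.2.fromSpec ⁻¹ᵁ C.basicOpen s := hx
      rw [V.2.fromSpec_preimage_basicOpen] at h2
      exact h2 (hPJ hsJ)
    exact h1
  haveI happ : IsIso (ν.app (C.basicOpen s)) := by
    have hi : IsIso ((ν ∣_ U).app (U.ι ⁻¹ᵁ C.basicOpen s)) := inferInstance
    have e : U.ι ''ᵁ (U.ι ⁻¹ᵁ C.basicOpen s) = C.basicOpen s := by
      rw [Scheme.Hom.image_preimage_eq_opensRange_inf, Scheme.Opens.opensRange_ι, inf_eq_right.2 hDU]
    rw [morphismRestrict_app] at hi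
    have hi' : IsIso (ν.app (U.ι ''ᵁ (U.ι ⁻¹ᵁ C.basicOpen s))) := (@isIso_comp_right_iff _ _ _ _ _ (ν.app (U.ι ''ᵁ (U.ι ⁻¹ᵁ C.basicOpen s))) _ (Functor.map_isIso _ _)).1 hi
    exact e ▸ hi'
  have hbo : ν ⁻¹ᵁ C.basicOpen s = Cn.basicOpen (φ s) := Scheme.preimage_basicOpen ν s
  haveI := V.2.isLocalization_basicOpen s
  haveI := hW.isLocalization_basicOpen (φ s)
  have hnat : ∀ a : A, (Cn.presheaf.map (homOfLE (ν.preimage_mono (C.basicOpen_le s))).op).hom (φ a) =
      (ν.app (C.basicOpen s)).hom ((C.presheaf.map (homOfLE (C.basicOpen_le s)).op).hom a) := fun a =>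
    (RingHom.congr_fun (congrArg CommRingCat.Hom.hom (ν.naturality (homOfLE (C.basicOpen_le s)).op)) a).symm
  have hbij : Function.Bijective (ν.app (C.basicOpen s)).hom :=
    (ConcreteCategory.isIso_iff_bijective _).1 happ
  have hker : ∀ b : B, (Cn.presheaf.map (homOfLE (ν.preimage_mono (C.basicOpen_le s))).op).hom b = 0 →
      ∃ N : ℕ, φ s ^ N * b = 0 := by
    intro b hb
    have hb' : algebraMap B Γ(Cn, Cn.basicOpen (φ s)) b = algebraMap B Γ(Cn, Cn.basicOpen (φ s)) 0 := by
      rw [map_zero]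
      have := congrArg (Cn.presheaf.map (eqToHom hbo.symm).op).hom hb
      rw [map_zero, ← CommRingCat.comp_apply, ← Functor.map_comp] at this
      exact this
    obtain ⟨⟨_, N, rfl⟩, hN⟩ := IsLocalization.exists_of_eq (M := Submonoid.powers (φ s)) hb'
    exact ⟨N, by simpa using hN⟩
  have hinj : Function.Injective φ := by
    refine (injective_iff_map_eq_zero φ).2 fun a ha => ?_
    have h0 : (C.presheaf.map (homOfLE (C.basicOpen_le s)).op).hom a = 0 :=
      hbij.1 (by rw [← hnat, ha, map_zero, map_zero])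
    obtain ⟨⟨_, N, rfl⟩, hN⟩ := IsLocalization.exists_of_eq (M := Submonoid.powers s) (S := Γ(C, C.basicOpen s))
      (x := a) (y := 0) (h0.trans (map_zero _).symm)
    replace hN : s ^ N * a = 0 := by simpa using hN
    refine IsReduced.eq_zero a (nilpotent_iff_mem_prime.mpr fun q hq => ?_)
    obtain ⟨q₀, hq₀, hle⟩ := Ideal.exists_minimalPrimes_le (I := (⊥ : Ideal A)) (J := q) bot_le
    exact hle ((hq₀.1.1.mem_or_mem (hN ▸ q₀.zero_mem : s ^ N * a ∈ q₀)).resolve_left
      fun h => hsA q₀ hq₀ (hq₀.1.1.mem_of_pow_mem N h))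
  have hloc : ∀ b : B, ∃ (N : ℕ) (a : A), φ s ^ N * b = φ a := by
    intro b
    obtain ⟨x, hx⟩ := hbij.2 ((Cn.presheaf.map (homOfLE (ν.preimage_mono (C.basicOpen_le s))).op).hom b)
    obtain ⟨⟨a, ⟨_, M, rfl⟩⟩, ha⟩ := IsLocalization.surj (Submonoid.powers s) x
    have h0 := congrArg (ν.app (C.basicOpen s)).hom ha
    rw [map_mul, hx] at h0
    change _ * (ν.app (C.basicOpen s)).hom ((C.presheaf.map (homOfLE (C.basicOpen_le s)).op).hom (s ^ M)) =
      (ν.app (C.basicOpen s)).hom ((C.presheaf.map (homOfLE (C.basicOpen_le s)).op).hom a) at h0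
    rw [← hnat, ← hnat, ← map_mul, ← sub_eq_zero, ← map_sub] at h0
    obtain ⟨N, hN⟩ := hker _ h0
    refine ⟨N + M, s ^ N * a, ?_⟩
    rw [map_mul, map_pow, ← sub_eq_zero, ← hN, map_pow]
    ring
  -- the conductor and the singular locus
  have hnorm : ∀ (q : Ideal B) [q.IsPrime],
      IsDomain (Localization.AtPrime q) ∧ IsIntegrallyClosed (Localization.AtPrime q) := by
    intro q hq
    let y : Cn := hW.fromSpec ⟨q, hq⟩
    have hy : y ∈ W := by
      have : y ∈ Set.range hW.fromSpec := ⟨_, rfl⟩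
      rwa [hW.range_fromSpec] at this
    letI : Algebra B (Cn.presheaf.stalk y) := (Cn.presheaf.germ W y hy).hom.toAlgebra
    haveI : IsLocalization.AtPrime (Cn.presheaf.stalk y) q := hW.isLocalization_stalk' ⟨q, hq⟩ hy
    let e := (IsLocalization.algEquiv q.primeCompl (Localization.AtPrime q) (Cn.presheaf.stalk y)).toRingEquiv
    haveI := (hn y).1
    haveI := (hn y).2
    exact ⟨e.toMulEquiv.isDomain, IsIntegrallyClosed.of_equiv e.symm⟩
  have hiff : ∀ (p : Ideal A) [p.IsPrime], d.ker.ideal V ≤ p ↔ cond φ ≤ p := by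
    intro p hp
    let x : C := V.2.fromSpec ⟨p, hp⟩
    have hxV : x ∈ V.1 := by
      have : x ∈ Set.range V.2.fromSpec := ⟨_, rfl⟩
      rwa [V.2.range_fromSpec] at this
    have h1 : d.ker.ideal V ≤ p ↔ x ∈ Set.range d.base := by
      have h2 : x ∈ (d.ker.support : Set C) ↔ d.ker.ideal V ≤ p := by
        show x ∈ d.ker.support ↔ _
        rw [Scheme.IdealSheafData.mem_support_iff_of_mem hxV, Scheme.mem_zeroLocus_iff]
        refine forall₂_congr fun f _ => ?_
        show ¬ (⟨p, hp⟩ : PrimeSpectrum A) ∈ V.2.fromSpec ⁻¹ᵁ C.basicOpen f ↔ _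
        rw [V.2.fromSpec_preimage_basicOpen]
        exact not_not
      rw [← h2, Scheme.Hom.support_ker, d.isClosedEmbedding.isClosed_range.closure_eq]
    rw [h1, hd, Set.mem_setOf_eq]
    letI : Algebra A (C.presheaf.stalk x) := (C.presheaf.germ V.1 x hxV).hom.toAlgebra
    haveI : IsLocalization.AtPrime (C.presheaf.stalk x) p := V.2.isLocalization_stalk' ⟨p, hp⟩ hxV
    let e := (IsLocalization.algEquiv p.primeCompl (Localization.AtPrime p) (C.presheaf.stalk x)).toRingEquiv
    constructor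
    · intro hns
      by_contra hle
      haveI := isRegularLocalRing_of_cond_not_le φ hfin hinj hnorm p
        ((ringKrullDim_eq_of_ringEquiv e).le.trans ((CurvesLib24.stalk_dim_le_topologicalKrullDim x).trans hdim)) hle
      exact hns (IsRegularLocalRing.of_ringEquiv e)
    · intro hle hreg
      haveI := IsRegularLocalRing.of_ringEquiv e.symm
      haveI := CAlgH3.isDomain_of_isRegularLocalRing (Localization.AtPrime p)
      haveI := CAlgH3.isIntegrallyClosed_of_regular (Localization.AtPrime p)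
      exact cond_not_le_of_isIntegrallyClosed φ hfin hinj s hsA hsB hloc p hle
  have hradB := isRadical_map_cond φ hsnV hinj
  have hcrad : (cond φ).IsRadical := fun a ha => by
    obtain ⟨N, hN⟩ := ha
    have : φ a ∈ (cond φ).map φ := hradB ⟨N, by rw [← map_pow]; exact Ideal.mem_map_of_mem φ hN⟩
    obtain ⟨a', ha', e⟩ := exists_cond_of_mem_map φ this
    rwa [← hinj e]
  have hIrad : (d.ker.ideal V).IsRadical := by
    rw [Scheme.Hom.ker_apply]
    haveI : _root_.IsReduced Γ(D, d ⁻¹ᵁ V.1) := IsReduced.component_reduced _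
    exact (RingHom.ker_isRadical_iff_reduced_of_surjective (d.app_surjective V.1 V.2)).2 inferInstance
  have hIc : d.ker.ideal V = cond φ := by
    rw [← hIrad.radical, ← hcrad.radical, Ideal.radical_eq_sInf, Ideal.radical_eq_sInf]
    congr 1
    ext p
    exact ⟨fun h => ⟨(@hiff p h.2).1 h.1, h.2⟩, fun h => ⟨(@hiff p h.2).2 h.1, h.2⟩⟩
  refine ⟨hIc, hinj, hIc ▸ hradB, fun p hp hle => ?_⟩
  obtain ⟨m, hm, hpm⟩ := Ideal.exists_le_maximal p hp.ne_top
  by_contra hnm
  -- `p` is a minimal prime, hence a regular point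
  have hmin : p ∈ minimalPrimes A := by
    obtain ⟨q, hq, hqp⟩ := Ideal.exists_minimalPrimes_le (I := (⊥ : Ideal A)) (J := p) bot_le
    rcases eq_or_lt_of_le hqp with rfl | hlt
    · exact hq
    exfalso
    have hlt' : p < m := lt_of_le_of_ne hpm fun h => hnm (h ▸ hm)
    let x : C := V.2.fromSpec ⟨m, hm.isPrime⟩
    have hxV : x ∈ V.1 := by
      have : x ∈ Set.range V.2.fromSpec := ⟨_, rfl⟩
      rwa [V.2.range_fromSpec] at this
    letI : Algebra A (C.presheaf.stalk x) := (C.presheaf.germ V.1 x hxV).hom.toAlgebra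
    haveI : IsLocalization.AtPrime (C.presheaf.stalk x) m := V.2.isLocalization_stalk' ⟨m, hm.isPrime⟩ hxV
    have h2 : (2 : WithBot ℕ∞) ≤ ringKrullDim (C.presheaf.stalk x) := by
      rw [IsLocalization.AtPrime.ringKrullDim_eq_height m]
      haveI := hq.1.1
      haveI := hp
      haveI := hm.isPrime
      have e1 : q.height + 1 ≤ p.height := by
        exact Ideal.height_add_one_le_of_lt_of_isPrime hlt
      have e2 : p.height + 1 ≤ m.height := by
        exact Ideal.height_add_one_le_of_lt_of_isPrime hlt'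
      have : (2 : ℕ∞) ≤ m.height := le_trans (le_of_eq_of_le one_add_one_eq_two.symm (add_le_add (le_trans le_add_self e1) le_rfl)) e2
      exact WithBot.coe_le_coe.2 this
    exact absurd (h2.trans ((CurvesLib24.stalk_dim_le_topologicalKrullDim x).trans hdim)) (by decide)
  haveI := hp
  have hple := (hiff p).1 hle
  haveI : Ring.KrullDimLE 0 (Localization.AtPrime p) := Ring.KrullDimLE.of_isLocalization p hmin _
  haveI : IsArtinianRing (Localization.AtPrime p) := isArtinianRing_iff_krullDimLE_zero.2 inferInstance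
  have hfield : IsField (Localization.AtPrime p) := IsArtinianRing.isField_of_isReduced_of_isLocalRing _
  letI := hfield.toField
  exact cond_not_le_of_isIntegrallyClosed φ hfin hinj s hsA hsB hloc p hple

end Groth.Agent.SN24
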