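import Groth.Agent.ChowSym29.Seminormal
import Mathlib.RingTheory.RegularLocalRing.Defs
import Mathlib.RingTheory.IntegralClosure.IntegrallyClosed
import Mathlib.RingTheory.DedekindDomain.Basic
import Mathlib.RingTheory.Spectrum.Prime.RingHom
import Mathlib.RingTheory.DiscreteValuationRing.TFAE
import Mathlib.RingTheory.Localization.FractionRing
import Mathlib.RingTheory.Localization.Submodule

/-!
# Conductors of seminormal curves
-/

set_option autoImplicit false
universe u

open IsLocalRing

namespace Groth.Agent.SN24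

variable {A B : Type u} [CommRing A] [CommRing B] (φ : A →+* B)

/-- The conductor, as an ideal of the smaller ring. -/
def cond : Ideal A where
  carrier := {a | ∀ b : B, φ a * b ∈ φ.range}
  add_mem' := fun {x y} hx hy b => by rw [map_add, add_mul]; exact add_mem (hx b) (hy b)
  zero_mem' := fun b => by rw [map_zero, zero_mul]; exact zero_mem _
  smul_mem' := fun r {x} hx b => by rw [smul_eq_mul, map_mul, mul_assoc]; exact mul_mem ⟨r, rfl⟩ (hx b)

theorem mem_cond {a : A} : a ∈ cond φ ↔ ∀ b : B, φ a * b ∈ φ.range := Iff.rfl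

theorem exists_cond_of_mem_map {y : B} (hy : y ∈ (cond φ).map φ) : ∃ a ∈ cond φ, φ a = y := by
  suffices h : ∀ b : B, y * b ∈ φ.range by
    obtain ⟨a, ha⟩ := h 1
    rw [mul_one] at ha
    exact ⟨a, fun b => ha ▸ h b, ha⟩
  induction hy using Submodule.span_induction with
  | mem x hx => obtain ⟨a, ha, rfl⟩ := hx; exact ha
  | zero => intro b; rw [zero_mul]; exact zero_mem _
  | add x y _ _ hx hy => intro b; rw [add_mul]; exact add_mem (hx b) (hy b)
  | smul r x _ hx => intro b; rw [smul_eq_mul, mul_comm r, mul_assoc]; exact hx _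

theorem isRadical_map_cond [IsReduced B] (hA : HTop.IsSeminormalRing A) (hinj : Function.Injective φ) :
    ((cond φ).map φ).IsRadical := by
  refine (Ideal.isRadical_iff_pow_one_lt 2 one_lt_two).2 fun y hy => ?_
  obtain ⟨a, ha, hay⟩ := exists_cond_of_mem_map φ hy
  have key : ∀ b : B, y * b ∈ φ.range := fun b => by
    refine ChowSym29.mem_range_of_sq_of_cube hA φ hinj ?_ ?_
    · rw [show (y * b) ^ 2 = φ a * b ^ 2 by rw [hay]; ring]; exact ha _
    · rw [show (y * b) ^ 3 = φ a * (y * b ^ 3) by rw [hay]; ring]; exact ha _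
  obtain ⟨a', ha'⟩ := key 1
  rw [mul_one] at ha'
  exact ha' ▸ Ideal.mem_map_of_mem φ fun b => ha' ▸ key b

/-- The fibre product property of the conductor square. -/
theorem existsUnique_of_cond (hinj : Function.Injective φ) {R : Type u} [CommRing R] (p : B →+* R)
    (hp : RingHom.ker p = (cond φ).map φ) (b : B) (a : A) (h : p b = p (φ a)) :
    ∃! x : A, φ x = b ∧ x - a ∈ cond φ := by
  have hmem : b - φ a ∈ RingHom.ker p := by rw [RingHom.mem_ker, map_sub, h, sub_self]
  obtain ⟨c, hc, hc'⟩ := exists_cond_of_mem_map φ (hp ▸ hmem)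
  refine ⟨a + c, ⟨by rw [map_add, hc', add_sub_cancel], by rwa [add_sub_cancel_left]⟩, fun x hx => hinj ?_⟩
  rw [hx.1, map_add, hc', add_sub_cancel]

variable [IsNoetherianRing A]

/-- Regular points are outside the conductor. -/
theorem cond_not_le_of_isIntegrallyClosed [IsReduced B] (hfin : φ.Finite) (hinj : Function.Injective φ)
    (s : A) (hsA : ∀ q ∈ minimalPrimes A, s ∉ q) (hsB : ∀ q ∈ minimalPrimes B, φ s ∉ q)
    (hloc : ∀ b : B, ∃ (N : ℕ) (a : A), φ s ^ N * b = φ a)
    (p : Ideal A) [p.IsPrime] [IsDomain (Localization.AtPrime p)] [IsIntegrallyClosed (Localization.AtPrime p)] :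
    ¬ cond φ ≤ p := by
  letI := φ.toAlgebra
  haveI : Module.Finite A B := hfin
  let Ap := Localization.AtPrime p
  let K := FractionRing Ap
  let j : A →+* K := (algebraMap Ap K).comp (algebraMap A Ap)
  have hj : ∀ x, j x = 0 → ∃ t ∉ p, t * x = 0 := fun x hx => by
    obtain ⟨t, ht⟩ := (IsLocalization.map_eq_zero_iff p.primeCompl Ap x).1
      ((IsFractionRing.injective Ap K) (hx.trans (map_zero _).symm))
    exact ⟨t, t.2, ht⟩
  have hs0 : j s ≠ 0 := fun h => by
    obtain ⟨q, hq, hqp⟩ := Ideal.exists_minimalPrimes_le (I := (⊥ : Ideal A)) (J := p) bot_le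
    obtain ⟨t, ht, hts⟩ := hj s h
    exact hsA q hq ((hq.1.1.mem_or_mem (hts ▸ q.zero_mem : t * s ∈ q)).resolve_left fun h' => ht (hqp h'))
  have hsreg : ∀ b : B, φ s * b = 0 → b = 0 := fun b hb => by
    refine IsReduced.eq_zero b (nilpotent_iff_mem_prime.mpr fun q hq => ?_)
    obtain ⟨q₀, hq₀, hle⟩ := Ideal.exists_minimalPrimes_le (I := (⊥ : Ideal B)) (J := q) bot_le
    exact hle ((hq₀.1.1.mem_or_mem (hb ▸ q₀.zero_mem : φ s * b ∈ q₀)).resolve_left (hsB q₀ hq₀))
  have hone : ∀ b : B, ∃ t ∉ p, φ t * b ∈ φ.range := by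
    intro b
    obtain ⟨N, a, ha⟩ := hloc b
    have hint : IsIntegral A b := Algebra.IsIntegral.isIntegral b
    obtain ⟨P, hP, hPb⟩ := hint
    have hz : IsIntegral Ap (j a / j s ^ N) := by
      refine IsIntegral.tower_top (R := A) ⟨P, hP, ?_⟩
      have hA0 : ∑ i ∈ Finset.range (P.natDegree + 1), P.coeff i * a ^ i * s ^ (N * (P.natDegree - i)) = 0 := by
        apply hinj
        rw [map_sum, map_zero]
        calc ∑ i ∈ Finset.range (P.natDegree + 1), φ (P.coeff i * a ^ i * s ^ (N * (P.natDegree - i)))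
            = φ s ^ (N * P.natDegree) * Polynomial.eval₂ φ b P := by
              rw [Polynomial.eval₂_eq_sum_range, Finset.mul_sum]
              refine Finset.sum_congr rfl fun i hi => ?_
              have hi' : i ≤ P.natDegree := by simpa [Nat.lt_succ_iff] using hi
              rw [map_mul, map_mul, map_pow, map_pow, ← ha, mul_pow, ← pow_mul,
                show φ (P.coeff i) * (φ s ^ (N * i) * b ^ i) * φ s ^ (N * (P.natDegree - i)) =
                  φ s ^ (N * i + N * (P.natDegree - i)) * (φ (P.coeff i) * b ^ i) by rw [pow_add]; ring,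
                ← mul_add, Nat.add_sub_cancel' hi']
          _ = 0 := by rw [show Polynomial.eval₂ φ b P = 0 from hPb, mul_zero]
      have hj0 := congrArg j hA0
      rw [map_sum, map_zero] at hj0
      rw [Polynomial.eval₂_eq_sum_range]
      have hpow : j s ^ (N * P.natDegree) ≠ 0 := pow_ne_zero _ hs0
      refine (mul_eq_zero.1 ?_).resolve_left hpow
      rw [Finset.mul_sum, ← hj0]
      refine Finset.sum_congr rfl fun i hi => ?_
      have hi' : i ≤ P.natDegree := by simpa [Nat.lt_succ_iff] using hi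
      rw [map_mul j, map_mul j, map_pow, map_pow, div_pow, ← pow_mul]
      rw [show N * P.natDegree = N * i + N * (P.natDegree - i) by rw [← mul_add, Nat.add_sub_cancel' hi'], pow_add,
        IsScalarTower.algebraMap_apply A Ap K]
      show _ * (j (P.coeff i) * _) = _
      rw [mul_assoc, mul_comm (j (P.coeff i)), ← mul_assoc, ← mul_assoc, mul_comm (j s ^ (N * i)), mul_assoc _ (j s ^ (N * i)),
        mul_div_cancel₀ _ (pow_ne_zero _ hs0)]
      ring
    obtain ⟨z, hz'⟩ := IsIntegrallyClosed.algebraMap_eq_of_integral hz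
    obtain ⟨⟨a', t'⟩, rfl⟩ := IsLocalization.mk'_surjective p.primeCompl z
    have he : j (a' * s ^ N) = j (a * t') := by
      have h1 : j a' = algebraMap Ap K (IsLocalization.mk' Ap a' t') * j t' := by
        rw [RingHom.comp_apply, RingHom.comp_apply, ← map_mul, IsLocalization.mk'_spec]
      rw [map_mul, map_mul, map_pow, h1, hz']
      rw [mul_assoc, mul_comm (j (t' : A)), ← mul_assoc, div_mul_cancel₀ _ (pow_ne_zero _ hs0)]
    obtain ⟨t, ht, hte⟩ := hj (a' * s ^ N - a * t') (by rw [map_sub, he, sub_self])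
    refine ⟨t * t', fun h => (Ideal.IsPrime.mem_or_mem ‹_› h).elim ht t'.2, t * a', ?_⟩
    have h0 : φ s ^ N * (φ (t * a') - φ (t * t') * b) = 0 := by
      have := congrArg φ hte
      rw [map_mul, map_sub, map_mul, map_mul, map_zero, map_pow, ← ha] at this
      rw [← this, map_mul, map_mul]
      ring
    refine sub_eq_zero.1 ?_
    clear hte he hz' hz
    clear ha
    induction N with
    | zero => simpa using h0
    | succ N ih =>
      apply ih
      · apply hsreg
        rw [← mul_assoc, ← pow_succ']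
        exact h0
  classical
  obtain ⟨S, hS⟩ := Module.Finite.fg_top (R := A) (M := B)
  choose t ht htb using hone
  intro hle
  have hT : ∏ b ∈ S, t b ∈ cond φ := fun b => by
    have hb : b ∈ Submodule.span A (S : Set B) := hS ▸ trivial
    induction hb using Submodule.span_induction with
    | mem x hx =>
      rw [← Finset.mul_prod_erase S t (Finset.mem_coe.1 hx), map_mul, mul_comm (φ (t x)), mul_assoc]
      exact mul_mem ⟨_, rfl⟩ (htb x)
    | zero => rw [mul_zero]; exact zero_mem _
    | add x y _ _ hx hy => rw [mul_add]; exact add_mem hx hy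
    | smul r x _ hx => rw [Algebra.smul_def, mul_left_comm]; exact mul_mem ⟨r, rfl⟩ hx
  obtain ⟨b, -, hb⟩ := Ideal.IsPrime.prod_mem_iff.1 (hle hT)
  exact ht b hb

/-- Points outside the conductor are normal, hence regular in dimension one. -/
theorem isRegularLocalRing_of_cond_not_le (hfin : φ.Finite) (hinj : Function.Injective φ)
    (hB : ∀ (q : Ideal B) [q.IsPrime], IsDomain (Localization.AtPrime q) ∧ IsIntegrallyClosed (Localization.AtPrime q))
    (p : Ideal A) [hp : p.IsPrime] (hdim : ringKrullDim (Localization.AtPrime p) ≤ 1) (h : ¬ cond φ ≤ p) :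
    IsRegularLocalRing (Localization.AtPrime p) := by
  obtain ⟨t, htc, htp⟩ := Set.not_subset.1 h
  letI := φ.toAlgebra
  haveI : Module.Finite A B := hfin
  haveI : FaithfulSMul A B := (faithfulSMul_iff_algebraMap_injective A B).2 hinj
  obtain ⟨⟨q, hq, hqp⟩⟩ := (inferInstance : Nonempty (p.primesOver B))
  have hcomap : p = q.comap φ := hqp.over
  let f : Localization.AtPrime p →+* Localization.AtPrime q := Localization.localRingHom p q φ hcomap
  have hbij : Function.Bijective f := by
    refine ⟨(injective_iff_map_eq_zero f).2 fun x hx => ?_, fun y => ?_⟩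
    · obtain ⟨⟨a, u⟩, rfl⟩ := IsLocalization.mk'_surjective p.primeCompl x
      rw [Localization.localRingHom_mk', IsLocalization.mk'_eq_zero_iff] at hx
      obtain ⟨⟨m, hm⟩, hma⟩ := hx
      obtain ⟨m', hm'⟩ := htc m
      rw [IsLocalization.mk'_eq_zero_iff]
      refine ⟨⟨m', fun hmem => ?_⟩, hinj ?_⟩
      · have h' : φ t * m ∈ q := hm' ▸ (hcomap ▸ hmem : m' ∈ q.comap φ)
        exact (hq.mem_or_mem h').elim (fun h'' => htp (hcomap ▸ h'' : t ∈ p)) hm
      · rw [map_mul, hm', mul_assoc, show m * φ a = 0 from hma, mul_zero, map_zero]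
    · obtain ⟨⟨b, ⟨m, hm⟩⟩, rfl⟩ := IsLocalization.mk'_surjective q.primeCompl y
      obtain ⟨b', hb'⟩ := htc b
      obtain ⟨m', hm'⟩ := htc m
      have hm'p : m' ∉ p := fun hmem => by
        have h' : φ t * m ∈ q := hm' ▸ (hcomap ▸ hmem : m' ∈ q.comap φ)
        exact (hq.mem_or_mem h').elim (fun h'' => htp (hcomap ▸ h'' : t ∈ p)) hm
      refine ⟨IsLocalization.mk' _ b' (⟨m', hm'p⟩ : p.primeCompl), ?_⟩
      rw [Localization.localRingHom_mk', IsLocalization.mk'_eq_iff_eq]
      show algebraMap _ _ (m * φ b') = algebraMap _ _ (φ m' * b)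
      rw [hb', hm']
      congr 1
      ring
  let e := (RingEquiv.ofBijective f hbij).symm
  obtain ⟨hdom, hic⟩ := hB q
  haveI : IsDomain (Localization.AtPrime p) := (RingEquiv.ofBijective f hbij).toMulEquiv.isDomain
  haveI : IsIntegrallyClosed (Localization.AtPrime p) := IsIntegrallyClosed.of_equiv e
  haveI : Ring.KrullDimLE 1 (Localization.AtPrime p) := Ring.krullDimLE_iff.mpr (by exact_mod_cast hdim)
  haveI : Ring.DimensionLEOne (Localization.AtPrime p) :=
    ⟨fun {q'} hq' hqq => hqq.isMaximal_of_ne_bot hq'⟩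
  haveI : IsPrincipalIdealRing (Localization.AtPrime p) :=
    ((tfae_of_isNoetherianRing_of_isLocalRing_of_isDomain (Localization.AtPrime p)).out 0 3 rfl rfl).mpr
      ⟨inferInstance, fun P hP hP' ↦ IsLocalRing.eq_maximalIdeal (hP'.isMaximal_of_ne_bot hP)⟩
  infer_instance

end Groth.Agent.SN24
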